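import Groth.Agent.CohTwo.CohSub
import Groth.Agent.QCohMod.Category
import Groth.Agent.QCohMod.Coherent
import Groth.Agent.PnCoh.TwistQuot
import Groth.Agent.KTheory.Perf
import Groth.Agent.PropsBasic2.NoethScheme

/-!
Coherent submodules surjecting, on an open subscheme, onto a coherent quotient.
-/

set_option autoImplicit false

universe u

open CategoryTheory CategoryTheory.Limits AlgebraicGeometry

namespace Groth.CohExtendCx

variable {X : Scheme.{u}}

/-- A map `M ⟶ N` which is an epimorphism onto a coherent module over `U` stays one on some coherent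
module mapping to `M`. -/
theorem exists_coh_lift [IsNoetherian X] (U : X.Opens) {M N : X.Modules} [M.IsQuasicoherent]
    [N.IsQuasicoherent] (p : M ⟶ N) (hN : Coh.IsCoh ((Scheme.Modules.restrictFunctor U.ι).obj N))
    [Epi ((Scheme.Modules.restrictFunctor U.ι).map p)] :
    ∃ (G : X.Modules) (g : G ⟶ M), Coh.IsCoh G ∧
      Epi ((Scheme.Modules.restrictFunctor U.ι).map (g ≫ p)) := by
  classical
  haveI : CompactSpace (U : Scheme.{u}) :=
    isCompact_iff_compactSpace.1 (TopologicalSpace.NoetherianSpace.isCompact (U : Set X))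
  obtain ⟨T, hT⟩ := Groth.PropsBasic2.exists_finite_affine_cover X
  obtain ⟨TU, hTU⟩ := Groth.PropsBasic2.exists_finite_affine_cover (U : Scheme.{u})
  let W : T ⊕ TU → X.Opens := Sum.elim (fun V => V.1.1) (fun V => U.ι ''ᵁ V.1.1)
  have hW : ∀ j, IsAffineOpen (W j) := by
    rintro (V | V)
    · exact V.1.2
    · exact V.1.2.image_of_isOpenImmersion U.ι
  let R := Scheme.Modules.restrictFunctor U.ι
  haveI : (R.obj M).IsQuasicoherent := Scheme.Modules.isQuasicoherent_restrictFunctor U.ι M
  haveI : (R.obj N).IsQuasicoherent := hN.1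
  choose A hA using fun V : TU => (Groth.QCohMod.finite_sections (R.obj N) hN.2 V.1.2).fg_top
  choose pre hpre using fun V : TU => Groth.QCohMod.app_surjective_of_epi (R.map p) V.1.2
  let S : ∀ j, Finset Γ(M, W j) := fun j => match j with
    | .inl _ => ∅
    | .inr V => (A V).image fun a => (show Γ(M, U.ι ''ᵁ V.1.1) from pre V a)
  obtain ⟨G, g, -, hG, hS⟩ := Groth.CohTwo.exists_coh_sub M W hW (fun x => by
    obtain ⟨V, hV⟩ := TopologicalSpace.Opens.mem_iSup.1 (hT.ge (show x ∈ (⊤ : X.Opens) from trivial))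
    exact ⟨.inl V, hV⟩) S
  refine ⟨G, g, hG, Groth.PnCoh.epi_of_affine_cover _ (fun V : TU => V.1.1) (fun V => V.1.2)
    (fun x => ?_) (fun V => (A V : Set _)) hA fun V s hs => ?_⟩
  · obtain ⟨V, hV⟩ := TopologicalSpace.Opens.mem_iSup.1
      (hTU.ge (show x ∈ (⊤ : (U : Scheme.{u}).Opens) from trivial))
    exact ⟨V, hV⟩
  · obtain ⟨m, hm⟩ := hS (.inr V) _ (Finset.mem_image_of_mem _ hs)
    refine ⟨m, Eq.trans ?_ (hpre V s)⟩
    show p.app _ (g.app (U.ι ''ᵁ V.1.1) m) = p.app (U.ι ''ᵁ V.1.1) (pre V s)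
    exact congrArg _ hm

end Groth.CohExtendCx
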