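import Groth.Agent.CohExtendCx.Lift
import Groth.Agent.Dual3Deligne.Basic
import Groth.Agent.KTheory.CohProps
import Groth.Agent.SheafExt.Coherent
import Mathlib.CategoryTheory.Abelian.Refinements
import Mathlib.CategoryTheory.Limits.Preserves.Shapes.Pullbacks

/-!
A complex of quasi-coherent modules with coherent cohomology over an open subscheme contains a
bounded subcomplex of coherent modules quasi-isomorphic to it over the open subscheme.
-/

set_option autoImplicit false

universe u

open CategoryTheory CategoryTheory.Limits AlgebraicGeometry HomologicalComplex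

namespace Groth.CohExtendCx

variable {X : Scheme.{u}} (U : X.Opens) (P : CochainComplex X.Modules ℤ)

local notation "R" => Scheme.Modules.restrictFunctor (Scheme.Opens.ι U)

/-- a coherent piece in degree `n` -/
structure State (n : ℤ) where
  /-- the module -/
  Y : X.Modules
  /-- the inclusion -/
  i : Y ⟶ P.X n
  coh : Coh.IsCoh Y
  mono : Mono i

/-- compatibility of the pieces in degrees `n` and `n + 1` -/
def Next {n : ℤ} (s : State P n) (s' : State P (n + 1)) : Prop :=
  ∃ δ : s.Y ⟶ s'.Y, δ ≫ s'.i = s.i ≫ P.d n (n + 1) ∧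
    (∀ ⦃A : (U : Scheme.{u}).Modules⦄ (y : A ⟶ (R).obj (P.X n)), y ≫ (R).map (P.d n (n + 1)) = 0 →
      ∃ (A' : (U : Scheme.{u}).Modules) (π : A' ⟶ A) (_ : Epi π) (e : A' ⟶ (R).obj s.Y)
        (w : A' ⟶ (R).obj (P.X (n - 1))),
        π ≫ y = e ≫ (R).map s.i + w ≫ (R).map (P.d (n - 1) n)) ∧
    (∀ ⦃A : (U : Scheme.{u}).Modules⦄ (x : A ⟶ (R).obj s'.Y) (y : A ⟶ (R).obj (P.X n)),
      x ≫ (R).map s'.i = y ≫ (R).map (P.d n (n + 1)) →
      ∃ (A' : (U : Scheme.{u}).Modules) (π : A' ⟶ A) (_ : Epi π) (e : A' ⟶ (R).obj s.Y),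
        π ≫ x = e ≫ (R).map δ)

variable [IsNoetherian X] [∀ q, (P.X q).IsQuasicoherent]

open scoped ZeroObject

/-- the piece in a degree above the range -/
noncomputable def zeroState (n : ℤ) : State P n where
  Y := 0
  i := 0
  coh := Groth.KTheory.isCoh_of_isZero (isZero_zero _)
  mono := ⟨fun _ _ _ => (isZero_zero _).eq_of_tgt _ _⟩

/-- the induction step -/
theorem exists_next (hcoh : ∀ n, Coh.IsCoh ((R).obj (P.homology n))) (n : ℤ) (s' : State P (n + 1)) :
    ∃ s : State P n, Next U P s s' := by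
  haveI := s'.mono
  haveI := s'.coh.1
  let d := P.d n (n + 1)
  let Q := pullback d s'.i
  haveI : Q.IsQuasicoherent := by
    let S := ShortComplex.mk
      (biprod.lift (pullback.fst d s'.i) (pullback.snd d s'.i) : Q ⟶ P.X n ⊞ s'.Y)
      (biprod.desc d (-s'.i)) (by simp [pullback.condition])
    haveI : S.X₂.IsQuasicoherent := Groth.QCohMod.isQCoh_biprod _ _
    haveI : S.X₃.IsQuasicoherent := inferInstanceAs (P.X (n + 1)).IsQuasicoherent
    haveI : Mono S.f := mono_of_mono_fac (biprod.lift_fst (pullback.fst d s'.i) (pullback.snd d s'.i))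
    exact Groth.QCohMod.isQCoh_of_mono_exact (S := S) (ShortComplex.exact_of_f_is_kernel S
      (KernelFork.IsLimit.ofι' S.f S.zero fun {A} k hk => by
        have hk' : (k ≫ biprod.fst) ≫ d = (k ≫ biprod.snd) ≫ s'.i := by
          have h : k ≫ biprod.desc d (-s'.i) = 0 := hk
          rw [biprod.desc_eq, Preadditive.comp_add, Preadditive.comp_neg, Preadditive.comp_neg,
            ← sub_eq_add_neg, sub_eq_zero] at h
          simpa using h
        exact ⟨pullback.lift _ _ hk', by apply biprod.hom_ext <;> simp [S] <;>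
          first | exact pullback.lift_fst _ _ _ | exact pullback.lift_snd _ _ _⟩))
  -- degree `n` cohomology
  haveI := Groth.Dual3Deligne.isQCoh_cycles P n
  haveI := Groth.Dual3Deligne.isQCoh_homology P n
  obtain ⟨G₁, g₁, hG₁, hg₁⟩ := exists_coh_lift U (P.homologyπ n) (hcoh n)
  -- boundaries inside the piece in degree `n + 1`
  let snd' := pullback.snd d s'.i
  let p := cokernel.π (kernel.ι snd')
  haveI : (kernel snd').IsQuasicoherent := Groth.QCohMod.isQCoh_kernel _
  haveI : (cokernel (kernel.ι snd')).IsQuasicoherent := Groth.QCohMod.isQCoh_cokernel _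
  haveI : Mono (Abelian.factorThruCoimage snd') := inferInstance
  have hN : Coh.IsCoh (cokernel (kernel.ι snd')) :=
    Groth.QCohMod.isCoh_of_mono (Abelian.factorThruCoimage snd') s'.coh
  haveI := hN.1
  obtain ⟨G₂, g₂, hG₂, hg₂⟩ := exists_coh_lift U p
    (Groth.SheafExt.isCoh_restrictFunctor U.ι hN)
  -- the piece
  let ψ : G₁ ⊞ G₂ ⟶ Q := biprod.desc
    (pullback.lift (g₁ ≫ P.iCycles n) 0 (by simp [d])) g₂
  have hG : Coh.IsCoh (G₁ ⊞ G₂) := Groth.QCohMod.isCoh_biprod hG₁ hG₂
  haveI := hG.1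
  haveI : (kernel ψ).IsQuasicoherent := Groth.QCohMod.isQCoh_kernel _
  have hY : Coh.IsCoh (Abelian.coimage ψ) := Groth.QCohMod.isCoh_cokernel _ hG
  haveI : Mono (Abelian.factorThruCoimage ψ) := inferInstance
  refine ⟨⟨Abelian.coimage ψ, Abelian.factorThruCoimage ψ ≫ pullback.fst d s'.i, hY,
    mono_comp _ _⟩, Abelian.factorThruCoimage ψ ≫ pullback.snd d s'.i, ?_, ?_, ?_⟩
  · simp only [Category.assoc]
    rw [← pullback.condition]
  · intro A y hy
    haveI : Mono ((R).map (P.iCycles n)) := inferInstance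
    haveI : Mono ((ShortComplex.mk (P.iCycles n) (P.d n (n + 1)) (P.iCycles_d n (n + 1))).map R).f :=
      ‹Mono ((R).map (P.iCycles n))›
    obtain ⟨ℓ, hℓ⟩ : ∃ ℓ : A ⟶ (R).obj (P.cycles n), ℓ ≫ (R).map (P.iCycles n) = y :=
      ⟨_, ((Groth.Dual3Deligne.cyclesFork_exact P n).map R).lift_f y hy⟩
    obtain ⟨A₁, π₁, _, e, he⟩ := surjective_up_to_refinements_of_epi
      ((R).map (g₁ ≫ P.homologyπ n)) (ℓ ≫ (R).map (P.homologyπ n))
    rw [Functor.map_comp] at he
    obtain ⟨A₂, π₂, _, w, hw⟩ :=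
      ((Groth.Dual3Deligne.toCycles_exact P n).map R).exact_up_to_refinements
        (π₁ ≫ ℓ - e ≫ (R).map g₁) (by
          show _ ≫ (R).map (P.homologyπ n) = 0
          simp only [Preadditive.sub_comp, Category.assoc]
          rw [he, sub_self])
    change π₂ ≫ _ = w ≫ (R).map (P.toCycles (n - 1) n) at hw
    refine ⟨A₂, π₂ ≫ π₁, inferInstance,
      π₂ ≫ e ≫ (R).map (biprod.inl ≫ cokernel.π (kernel.ι ψ)), w, ?_⟩
    have h1 : (R).map (biprod.inl ≫ cokernel.π (kernel.ι ψ)) ≫
        (R).map (Abelian.factorThruCoimage ψ ≫ pullback.fst d s'.i) =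
        (R).map g₁ ≫ (R).map (P.iCycles n) := by
      rw [← Functor.map_comp, ← Functor.map_comp]
      congr 1
      rw [Category.assoc, ← Category.assoc (cokernel.π (kernel.ι ψ)), Abelian.coimage.fac]
      simp [ψ, pullback.lift_fst]
    rw [Category.assoc, Category.assoc, Category.assoc, h1, ← hℓ,
      ← P.toCycles_i (n - 1) n, Functor.map_comp]
    erw [← reassoc_of% hw]
    simp only [Preadditive.sub_comp, Preadditive.comp_sub, Category.assoc]
    abel
  · intro A x y hxy
    obtain ⟨ℓ, hℓ₁, hℓ₂⟩ : ∃ ℓ : A ⟶ (R).obj Q, ℓ ≫ (R).map (pullback.fst d s'.i) = y ∧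
        ℓ ≫ (R).map snd' = x :=
      let h := (IsPullback.of_hasPullback d s'.i).map R
      ⟨h.lift y x hxy.symm, h.lift_fst _ _ _, h.lift_snd _ _ _⟩
    obtain ⟨A₁, π₁, _, e, he⟩ := surjective_up_to_refinements_of_epi
      ((R).map (g₂ ≫ p)) (ℓ ≫ (R).map p)
    refine ⟨A₁, π₁, inferInstance, e ≫ (R).map (biprod.inr ≫ cokernel.π (kernel.ι ψ)), ?_⟩
    have h1 : (R).map (biprod.inr ≫ cokernel.π (kernel.ι ψ)) ≫
        (R).map (Abelian.factorThruCoimage ψ ≫ pullback.snd d s'.i) =
        (R).map (g₂ ≫ p) ≫ (R).map (Abelian.factorThruCoimage snd') := by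
      rw [← Functor.map_comp, ← Functor.map_comp]
      congr 1
      rw [Category.assoc, ← Category.assoc (cokernel.π (kernel.ι ψ)), Abelian.coimage.fac,
        Category.assoc, Abelian.coimage.fac]
      simp [ψ, snd']
    rw [Category.assoc, h1, ← reassoc_of% he, ← Functor.map_comp, Abelian.coimage.fac, hℓ₂]

/-- the pieces in all degrees -/
noncomputable def st (b : ℤ) (hcoh : ∀ n, Coh.IsCoh ((R).obj (P.homology n))) (n : ℤ) : State P n :=
  if b < n then zeroState P n else (exists_next U P hcoh n (st b hcoh (n + 1))).choose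
  termination_by (b + 1 - n).toNat
  decreasing_by omega

theorem next_st (b : ℤ) (hcoh : ∀ n, Coh.IsCoh ((R).obj (P.homology n)))
    (hz : ∀ n, b < n → IsZero ((R).obj (P.homology n))) (n : ℤ) : Next U P (st U P b hcoh n) (st U P b hcoh (n + 1)) := by
  conv => arg 3; rw [st]
  split_ifs with h
  · refine ⟨0, ?_, fun A y hy => ?_, fun A x y _ => ⟨A, 𝟙 A, inferInstance, 0, ?_⟩⟩
    · rw [st, if_pos (by omega)]
      exact zero_comp.trans zero_comp.symm
    · have hex : (((P.sc' (n - 1) n (n + 1))).map R).Exact := by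
        rw [ShortComplex.exact_iff_isZero_homology]
        exact (hz n h).of_iso ((P.sc' (n - 1) n (n + 1)).mapHomologyIso R ≪≫
          (R).mapIso (P.homologyIsoSc' (n - 1) n (n + 1) (by simp) (by simp)).symm)
      obtain ⟨A', π, hπ, w, hw⟩ := hex.exact_up_to_refinements y hy
      exact ⟨A', π, hπ, 0, w, by rw [zero_comp, zero_add]; exact hw⟩
    · have : IsZero (st U P b hcoh (n + 1)).Y := by
        rw [st, if_pos (by omega)]; exact isZero_zero _
      exact ((R).map_isZero this).eq_of_tgt _ _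
  · exact (exists_next U P hcoh n (st U P b hcoh (n + 1))).choose_spec

/-- **a bounded coherent subcomplex** -/
theorem exists_coherent_subcomplex (b : ℤ) (hcoh : ∀ n, Coh.IsCoh ((R).obj (P.homology n)))
    (hz : ∀ n, b < n → IsZero ((R).obj (P.homology n))) (a : ℤ) (ha : ∀ n, n < a → IsZero (P.X n)) :
    ∃ (G : CochainComplex X.Modules ℤ) (i : G ⟶ P), (∀ n, Coh.IsCoh (G.X n)) ∧
      (∀ n, n < a → IsZero (G.X n)) ∧ (∀ n, b < n → IsZero (G.X n)) ∧
      QuasiIso (((R).mapHomologicalComplex (ComplexShape.up ℤ)).map i) := by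
  let s := st U P b hcoh
  choose δ hδ hepi hmono using next_st U P b hcoh hz
  have hdd : ∀ n, δ n ≫ δ (n + 1) = 0 := fun n => by
    haveI := (s (n + 1 + 1)).mono
    rw [← cancel_mono (s (n + 1 + 1)).i, Category.assoc, hδ, reassoc_of% (hδ n), P.d_comp_d,
      comp_zero, zero_comp]
  let G : CochainComplex X.Modules ℤ := CochainComplex.of (fun n => (s n).Y) δ hdd
  have hG : ∀ n, G.d n (n + 1) = δ n := fun n => by
    dsimp only [G, CochainComplex.of]
    erw [CochainComplex.of_d]
  let i : G ⟶ P := { f := fun n => (s n).i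
                     comm' := fun p q hpq => by
                      obtain rfl : p + 1 = q := hpq
                      rw [hG]
                      exact (hδ p).symm }
  refine ⟨G, i, fun n => (s n).coh, fun n hn => ?_, fun n hn => ?_, ⟨fun n => ?_⟩⟩
  · haveI := (s n).mono
    exact IsZero.of_mono (s n).i (ha n hn)
  · show IsZero (s n).Y
    simp only [s]
    rw [st, if_pos hn]
    exact isZero_zero _
  suffices h : ∀ m, QuasiIsoAt (((R).mapHomologicalComplex (ComplexShape.up ℤ)).map i) (m + 1) by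
    simpa using h (n - 1)
  intro m
  let φ := ((R).mapHomologicalComplex (ComplexShape.up ℤ)).map i
  haveI : ∀ k, Mono (φ.f k) := fun k => by
    haveI := (s k).mono
    exact inferInstanceAs (Mono ((R).map (s k).i))
  rw [quasiIsoAt_iff_isIso_homologyMap]
  haveI : Epi (homologyMap φ (m + 1)) := by
    rw [epi_homologyMap_iff_up_to_refinements φ m (m + 1) (m + 1 + 1) (by simp) (by simp)]
    intro A (y : A ⟶ (R).obj (P.X (m + 1)))
      (hy : y ≫ (R).map (P.d (m + 1) (m + 1 + 1)) = 0)
    obtain ⟨A', π, hπ, e, w, hw⟩ := hepi (m + 1) y hy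
    obtain ⟨w', hw'⟩ : ∃ w' : A' ⟶ (R).obj (P.X m),
        w' ≫ (R).map (P.d m (m + 1)) = w ≫ (R).map (P.d (m + 1 - 1) (m + 1)) := by
      have : m + 1 - 1 = m := by omega
      revert w
      rw [this]
      exact fun w _ => ⟨w, rfl⟩
    refine ⟨A', π, hπ, e, ?_, w', ?_⟩
    · haveI : Mono (φ.f (m + 1 + 1)) := inferInstance
      have h1 : e ≫ (R).map (s (m + 1)).i ≫ (R).map (P.d (m + 1) (m + 1 + 1)) = 0 := by
        have h2 : (π ≫ y) ≫ (R).map (P.d (m + 1) (m + 1 + 1)) = 0 := by
          rw [Category.assoc, hy, comp_zero]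
        rw [hw, Preadditive.add_comp, Category.assoc, Category.assoc,
          ← Functor.map_comp (R) (P.d (m + 1 - 1) (m + 1)),
          P.d_comp_d, Functor.map_zero, comp_zero, add_zero] at h2
        exact h2
      rw [← cancel_mono (φ.f (m + 1 + 1)), zero_comp]
      refine (Category.assoc _ _ _).trans ?_
      show e ≫ (R).map (G.d (m + 1) (m + 1 + 1)) ≫ (R).map (s (m + 1 + 1)).i = 0
      rw [hG (m + 1)]
      refine (congrArg (e ≫ ·) (((R).map_comp _ _).symm.trans
        ((congrArg (R).map (hδ (m + 1))).trans ((R).map_comp _ _)))).trans ?_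
      exact h1
    · exact hw.trans (congrArg (e ≫ (R).map (s (m + 1)).i + ·) hw'.symm)
  haveI : Mono (homologyMap φ (m + 1)) := by
    rw [mono_homologyMap_iff_up_to_refinements φ m (m + 1) (m + 1 + 1) (by simp) (by simp)]
    intro A x _ y hy
    obtain ⟨A', π, hπ, e, he⟩ := hmono m x y hy
    refine ⟨A', π, hπ, e, he.trans ?_⟩
    show e ≫ (R).map (δ m) = e ≫ (R).map (G.d m (m + 1))
    rw [hG]
  exact isIso_of_mono_of_epi _

end Groth.CohExtendCx
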